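import Cfsg.Agent.MK.Basic

/-!
# MK, the reduction: the relative equality over a normal subgroup (helper19)

`rel` : the induction hypothesis for character triples; `kk_step` : `kk ⊤ = kk N(K P)` for normal `K > Z`.
-/

set_option autoImplicit false
set_option maxHeartbeats 400000

namespace Cfsg.Agent.MK.R

open Cfsg Subgroup Cfsg.Agent.Characters.Core Cfsg.Agent.H672 Cfsg.Agent.H672.RM

variable {n : ℕ}

theorem ih_cnt (h : IH n) {Q : Type} [Group Q] [Finite Q] {Z P : Subgroup Q} (hZ : Z ≤ center Q) (l : Z →* ℂˣ)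
    (hP : SM 2 Z P ⊤) (hn : Z.index < n) (hZN : Z ≤ normalizer (P : Set Q)) :
    Cnt 2 Z.subtype (lf l) = Cnt 2 (inclusion hZN) (lf l) := by
  obtain ⟨S, -, hS, rfl⟩ := hP.exists_syl
  have h1 : ∀ z : Z, Function.extend Subtype.val (lf l) 0 (z : Q) = l z := Subtype.val_injective.extend_apply _ _
  have h2 := h Q Z hZ hn (Function.extend Subtype.val (lf l) 0) (hS.pg.toSylow (relIndex_top_right S ▸ hS.ndvd))
  rw [kk_eq_cnt le_top (fun z hz x _ => mem_center_iff.1 (hZ hz) x) h1, cnt_top rfl,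
    kk_eq_cnt (hZ.trans (center_le_normalizer _)) (fun z hz x _ => mem_center_iff.1 (hZ hz) x) h1] at h2
  exact h2.trans (cnt_eq_of_eq _ _ (normalizer_eq_of_central hZ hS) _)

variable {G : Type} [Group G] [Finite G]

theorem rel_top (h : IH n) {L P : Subgroup G} [L.Normal] (hP : SM 2 L P ⊤) {ν : L → ℂ} (hν : IsIrrCharacter L ν)
    (hinv : ∀ g, g ∈ stab ν) (hd : ¬ 2 ∣ charDegree ν) (hn : L.index < n) (hLN : L ≤ normalizer (P : Set G)) :
    Cnt 2 L.subtype ν = Cnt 2 (inclusion hLN) ν := by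
  obtain ⟨Δ, Q, _, _, _, π, m, Z, l, hI⟩ := exists_iso (p := 2) L hν hinv hd
  have hcP : P.comap π = ((P.comap π).map m).comap m := by
    rw [comap_map_eq, sup_eq_left.2 ((ker_le_comap m Z).trans (hI.comap.ge.trans (comap_mono hP.le)))]
  have hidx : ∀ {A B : Subgroup G} {A' B' : Subgroup Q}, A.comap π = A'.comap m → B.comap π = B'.comap m →
      A.relIndex B = A'.relIndex B' := fun {A B A' B'} hA hB => by
    rw [← map_comap_eq_self_of_surjective hI.surjπ B, ← relIndex_comap, hA, hB, relIndex_comap,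
      map_comap_eq_self_of_surjective hI.surjm]
  have ht : (⊤ : Subgroup G).comap π = (⊤ : Subgroup Q).comap m := by rw [comap_top, comap_top]
  have hZP : Z ≤ (P.comap π).map m := by
    rw [← map_comap_eq_self_of_surjective hI.surjm Z, ← hI.comap]
    exact map_mono (comap_mono hP.le)
  have c1 := hI.cnt ⊤ ⊤ le_top le_top ht
  rw [cnt_top rfl, cnt_top rfl] at c1
  exact c1.trans ((ih_cnt h hI.cen l ⟨hZP, le_top, hidx hI.comap hcP ▸ hP.pow, hidx hcP ht ▸ hP.ndvd⟩
    (by rwa [← relIndex_top_right, ← hidx hI.comap ht, relIndex_top_right]) (hZP.trans le_normalizer)).trans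
    (hI.cnt _ _ hLN _ (by rw [comap_normalizer_eq_of_surjective _ hI.surjπ, comap_normalizer_eq_of_surjective _ hI.surjm,
      ← hcP])).symm)

theorem rel_inv (h : IH n) {L P U : Subgroup G} (hUL : U ≤ normalizer (L : Set G)) (hP : SM 2 L P U) {ν : L → ℂ}
    (hν : IsIrrCharacter L ν) (hst : U ≤ stab ν) (hn : L.relIndex U < n) (hLU : L ≤ U)
    (hLN : L ≤ U ⊓ normalizer (P : Set G)) : Cnt 2 (inclusion hLU) ν = Cnt 2 (inclusion hLN) ν := by
  by_cases hd : 2 ∣ charDegree ν
  · have h0 : ∀ (V : Subgroup G) (hLV : L ≤ V), V ≤ U → Cnt 2 (inclusion hLV) ν = 0 := fun V hLV hVU =>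
      Nat.card_eq_zero.2 (.inl ⟨fun χ => χ.2.1 (hd.trans (div_dvd_of_over hLV (hVU.trans hUL) χ.1.2 hν χ.2.2).1)⟩)
    rw [h0 U hLU le_rfl, h0 _ hLN inf_le_left]
  have := normal_subgroupOf hUL
  have h1 := rel_top h (L := L.subgroupOf U) (P := P.subgroupOf U)
    ⟨comap_mono hP.le, le_top, by rw [relIndex_subgroupOf hP.le']; exact hP.pow, by rw [relIndex_top_right]; exact hP.ndvd⟩
    (isIrr_sub hLU hν) (fun g => by
      have hg : g ∈ normalizer ((L.subgroupOf U : Subgroup U) : Set U) := by rw [normalizer_eq_top]; trivial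
      refine ⟨hg, funext fun x => ?_⟩
      have h1 := congrFun (hst g.2).2 (subgroupOfEquivOfLe hLU x)
      rw [tw_apply (hUL g.2)] at h1
      rw [tw_apply hg]
      exact h1) (fun e => hd (deg_comp (subgroupOfEquivOfLe hLU).toMonoidHom ν ▸ e)) hn ((comap_mono hP.le).trans le_normalizer)
  rw [cnt_amb hLU le_rfl, cnt_amb hLN inf_le_left, cnt_top (subgroupOf_self U)]
  refine h1.trans (cnt_eq_of_eq _ _ ?_ _)
  rw [← subgroupOf_normalizer_eq hP.le', inf_comm, inf_subgroupOf_right]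

/-- **the relative equality** -/
theorem rel (h : IH n) {L P U : Subgroup G} (hUL : U ≤ normalizer (L : Set G)) (hP : SM 2 L P U) {ν : L → ℂ}
    (hν : IsIrrCharacter L ν) (hPν : P ≤ stab ν) (hn : L.relIndex U < n) (hLU : L ≤ U)
    (hLN : L ≤ U ⊓ normalizer (P : Set G)) : Cnt 2 (inclusion hLU) ν = Cnt 2 (inclusion hLN) ν := by
  have hidx : ∀ V : Subgroup G, P ≤ V → V ≤ U → ¬ 2 ∣ (stab ν).relIndex V := fun V hPV hVU h =>
    (hP.of_le hPV hVU).ndvd (h.trans (relIndex_dvd_of_le_left _ hPν))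
  have hL : L ≤ stab ν := hP.le.trans hPν
  rw [cnt_clifford Nat.prime_two hLU hUL hν (le_inf hLU hL) (hidx U hP.le' le_rfl),
    cnt_clifford Nat.prime_two hLN (inf_le_left.trans hUL) hν (le_inf hLN hL)
      (hidx _ (le_inf hP.le' le_normalizer) inf_le_left),
    rel_inv h (inf_le_left.trans hUL) (hP.of_le (le_inf hP.le' hPν) inf_le_left) hν inf_le_right
      (lt_of_le_of_lt (relIndex_le_of_le_right inf_le_left (rne _ _)) hn) _ (le_inf (le_inf hLU hL) (hLN.trans inf_le_right))]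
  exact cnt_eq_of_eq _ _ (inf_right_comm _ _ _) _

/-- **Clifford theory over a normal subgroup `K > Z`** -/
theorem kk_step {Z K : Subgroup G} (hZ : Z ≤ center G) (h : IH Z.index) [K.Normal] (hZK : Z < K) (P : Sylow 2 G) (l : G → ℂ) :
    kk ⊤ Z l = kk (normalizer ((K ⊔ (P : Subgroup G) : Subgroup G) : Set G)) Z l := by
  have hK : (⊤ : Subgroup G) ≤ normalizer (K : Set G) := (normalizer_eq_top K).ge
  have hR : SM 2 K (K ⊔ (P : Subgroup G)) ⊤ :=
    SylIn.sm ⟨le_top, P.isPGroup', (relIndex_top_right (P : Subgroup G)).symm ▸ P.not_dvd_index⟩ le_top hK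
  have hH : K ≤ ⊤ ⊓ normalizer ((K ⊔ (P : Subgroup G) : Subgroup G) : Set G) := le_inf le_top (le_sup_left.trans le_normalizer)
  refine kk_eq_of_cnt hZ le_top (hZ.trans (center_le_normalizer _)) fun m _ => ?_
  refine (stepA hZK.le le_top (fun g _ => (stab_lf_of_central hZ m g).1) hK hR hH (isIrr_lf m)
    (fun g _ => stab_lf_of_central hZ m g) fun ξ h1 h2 => rel h hK hR h1 h2 ?_ _ _).trans (cnt_eq_of_eq _ _ (top_inf_eq _) _)
  rw [← relIndex_top_right]
  exact relIndex_lt_of_lt_left hZK le_top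

end Cfsg.Agent.MK.R
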