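import Cfsg.Agent.MK.R.Grp
import Cfsg.Agent.MK.R.Rel
import Cfsg.Agent.H672.RM.Final
import Cfsg.Agent.H676.RM.Central

/-!
# MK, the reduction (helper19)

`red : Red`, and `s4596_of` : the statement of S4596 from `∀ n, IH n`.
-/

set_option autoImplicit false
set_option maxHeartbeats 400000

namespace Cfsg.Agent.MK.R

open Cfsg Subgroup Cfsg.Agent.Characters.Core Cfsg.Agent.H672 Cfsg.Agent.H672.RM

variable {G : Type} [Group G] [Finite G]

theorem odd_rel (P : Sylow 2 G) {H : Subgroup G} (h : (P : Subgroup G) ≤ H) : Odd ((P : Subgroup G).relIndex H) :=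
  Nat.not_even_iff_odd.1 fun e => P.not_dvd_index (e.two_dvd.trans (relIndex_dvd_index_of_le h))

/-- the case of a faithful character of a cyclic group of odd order -/
theorem mck_odd (hC : Crit) {Z : Subgroup G} (hZ : Z ≤ center G) (ho : Odd (Nat.card Z)) (hc : IsCyclic Z)
    (ih : IH Z.index) {l : G → ℂ} (hl : Fa Z l) (P : Sylow 2 G) :
    kk ⊤ Z l = kk (normalizer ((P : Subgroup G) : Set G)) Z l := by
  have := normal_of_le_center hZ
  by_cases h : ∀ K : Subgroup G, K.Normal → Z < K → (K ⊔ (P : Subgroup G)).Normal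
  · by_cases hs : IsPSolvable 2 G
    · refine kk_eq_of_cnt hZ le_top (hZ.trans (center_le_normalizer _)) fun m _ => ?_
      rw [cnt_top rfl]
      exact (relative_mckay (centralCase_of fun Z K hZ hK hZK hd S hKS lam N hN hZN =>
        H676.RM.central_case 2 Z K hZ hZK hd S hKS lam N hN hZN) hs Z P _ rfl (le_sup_left.trans le_normalizer) (isIrr_lf m)
        fun g _ => stab_lf_of_central hZ m g).trans (cnt_eq_of_eq _ _ (normalizer_eq_of_central hZ
          ⟨le_top, P.isPGroup', (relIndex_top_right (P : Subgroup G)).symm ▸ P.not_dvd_index⟩).symm _)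
    · have e := QuotientGroup.ker_mk' Z
      obtain ⟨X, Γ, ι, _, c, s⟩ := exists_conf (QuotientGroup.mk'_surjective Z) (e.symm ▸ hZ) (e.symm ▸ ho) (e.symm ▸ hc)
        (e.symm ▸ ih) P (e.symm ▸ h) hs
      have := Fintype.ofFinite ι
      exact hC X Γ G Z ι (e ▸ c) s l hl P
  · push Not at h
    obtain ⟨K, hK, hZK, hn⟩ := h
    rw [kk_step hZ ih hZK P l, ih.nm (fun z hz k _ => mem_center_iff.1 (hZ hz) k) ?_ (le_sup_right.trans le_normalizer)
      P.isPGroup' (odd_rel P (le_sup_right.trans le_normalizer)), inf_eq_right.2 normalizer_sup_le]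
    rw [← relIndex_top_right]
    exact relIndex_lt_of_lt (hZ.trans (center_le_normalizer _)) (lt_top_iff_ne_top.2 fun e => hn (normalizer_eq_top_iff.1 e))

omit [Finite G] in
/-- multiplication by a linear character -/
theorem kk_twist (H Z : Subgroup G) (l : G → ℂ) (μ : G →* ℂˣ) : kk H Z l = kk H Z fun g => μ g * l g := by
  have key : ∀ (l : G → ℂ) (μ : G →* ℂˣ) (ψ : H → ℂ), OI H ψ ∧ Ov H Z l ψ →
      OI H (fun h => μ h * ψ h) ∧ Ov H Z (fun g => μ g * l g) fun h => μ h * ψ h := fun l μ ψ h =>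
    ⟨⟨ODD.Red.isIrr_lin_mul (μ.comp H.subtype) h.1.1, by
      rw [ODD.Red.charDegree_congr (ψ := ψ) (by simp)]
      exact h.1.2⟩, fun x hx => by simp [h.2 x hx, mul_assoc]⟩
  refine Nat.card_congr
    { toFun := fun ψ => ⟨_, key l μ ψ.1 ψ.2⟩
      invFun := fun ψ => ⟨fun h => μ⁻¹ h * ψ.1 h, by simpa using key _ μ⁻¹ ψ.1 ψ.2⟩
      left_inv := fun ψ => Subtype.ext (funext fun h => by simp)
      right_inv := fun ψ => Subtype.ext (funext fun h => by simp) }

/-- the determinant and the transfer: the `2`-part of the central character extends to `G` -/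
theorem exists_twist {Z H : Subgroup G} (hZ : Z ≤ center G) (hZH : Z ≤ H) (hi : Odd H.index) {l : G → ℂ} {ψ : H → ℂ}
    (h1 : OI H ψ) (h2 : Ov H Z l ψ) : ∃ (μ : G →* ℂˣ) (b : ℕ), Odd b ∧ ∀ z ∈ Z, (μ z * l z) ^ b = 1 := by
  obtain ⟨a, b, hb, hab⟩ := Nat.exists_eq_two_pow_mul_odd (Nat.card_pos (α := Z)).ne'
  obtain ⟨u, hu⟩ : ∃ u, 2 ^ a ∣ (charDegree ψ * H.index) * u + 1 := by
    obtain ⟨u, -, hu⟩ := Nat.exists_mul_mod_eq_of_coprime (2 ^ a - 1)
      ((Nat.coprime_two_right.2 (h1.2.mul hi)).pow_right a) (by positivity)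
    refine ⟨u, (Nat.modEq_zero_iff_dvd).1 ((Nat.ModEq.add_right 1 hu).trans ?_)⟩
    rw [Nat.sub_add_cancel Nat.one_le_two_pow]
    exact Nat.modEq_zero_iff_dvd.2 dvd_rfl
  refine ⟨MonoidHom.transfer (ODD.Red.dH ψ) ^ u, b, hb, fun z hz => ?_⟩
  obtain ⟨c, hc, hk, hd⟩ := ODD.Red.exists_central h1.1 (z := ⟨z, hZH hz⟩)
    (mem_center_iff.2 fun g => Subtype.ext (mem_center_iff.1 (hZ hz) g))
  have e : l z = c := mul_right_cancel₀ h1.one_ne ((h2 ⟨z, hZH hz⟩ hz).symm.trans (by simpa using hc 1))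
  have e2 : MonoidHom.transfer (ODD.Red.dH ψ) z = ODD.Red.dH ψ ⟨z, hZH hz⟩ ^ H.index := by
    rw [MonoidHom.transfer_eq_pow _ z fun k g _ => by
      rw [mul_assoc, ← mem_center_iff.1 (pow_mem (hZ hz) k) g, inv_mul_cancel_left], ← map_pow]
    rfl
  obtain ⟨v, hv⟩ := hu
  rw [MonoidHom.pow_apply, e2, e, Units.val_pow_eq_pow_val, Units.val_pow_eq_pow_val, hd, ← pow_mul, ← pow_mul, ← pow_succ,
    ← mul_assoc, hv, ← pow_mul, mul_right_comm, ← hab, pow_mul, hk _ (Subtype.ext ?_), one_pow]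
  have e3 := congrArg Subtype.val (pow_card_eq_one' (x := (⟨z, hz⟩ : Z)))
  exact e3

/-- a central character of odd order -/
theorem mck_ord (hC : Crit) {Z : Subgroup G} (hZ : Z ≤ center G) (ih : IH Z.index) {l : G → ℂ} {b : ℕ} (hb : Odd b)
    (hl : ∀ z ∈ Z, l z ^ b = 1) (P : Sylow 2 G) : kk ⊤ Z l = kk (normalizer ((P : Subgroup G) : Set G)) Z l := by
  refine kk_eq_of_hom hZ le_top (hZ.trans (center_le_normalizer _)) fun m hm => ?_
  have hK : m.ker.map Z.subtype ≤ Z := map_subtype_le _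
  have := normal_of_le_center (hK.trans hZ)
  set f := QuotientGroup.mk' (m.ker.map Z.subtype)
  have hf : Function.Surjective f := QuotientGroup.mk'_surjective _
  have hk : f.ker = m.ker.map Z.subtype := QuotientGroup.ker_mk' _
  have hZf : (Z.map f).comap f = Z := comap_map_eq_self (hk.le.trans hK)
  obtain ⟨l', hl'⟩ : ∃ l' : G ⧸ m.ker.map Z.subtype → ℂ, ∀ z ∈ Z, l' (f z) = l z := by
    refine ⟨fun q => l q.out, fun z hz => ?_⟩
    obtain ⟨⟨_, y, hy, rfl⟩, e⟩ := QuotientGroup.mk_out_eq_mul (m.ker.map Z.subtype) z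
    change l (z : G ⧸ m.ker.map Z.subtype).out = _
    rw [e]
    refine (hm (⟨z, hz⟩ * y)).trans ?_
    rw [map_mul, MonoidHom.mem_ker.1 hy, mul_one, ← hm]
  have h1 : ∀ H : Subgroup G, kk (H.map f) (Z.map f) l' = kk H Z l := fun H =>
    kk_map f (fun h _ => by rw [← mem_comap, hZf]) fun h _ => hl' h
  have h2 : ∀ z ∈ Z, l z = 1 → f z = 1 := fun z hz e =>
    hk.ge ⟨⟨z, hz⟩, Units.ext ((hm ⟨z, hz⟩).symm.trans e), rfl⟩
  let m' : Z.map f →* ℂ :=
    { toFun := fun z => l' z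
      map_one' := (hl' 1 (one_mem Z)).trans ((hm 1).trans (by simp))
      map_mul' := by
        rintro ⟨_, x, hx, rfl⟩ ⟨_, y, hy, rfl⟩
        refine (hl' (x * y) (mul_mem hx hy)).trans ((hm (⟨x, hx⟩ * ⟨y, hy⟩)).trans ?_)
        rw [hl' x hx, hl' y hy, map_mul, Units.val_mul, ← hm, ← hm] }
  have hfa : Fa (Z.map f) l' := by
    rintro _ ⟨z, hz, rfl⟩ e
    exact h2 z hz ((hl' z hz).symm.trans e)
  have h3 := mck_odd hC (Z := Z.map f) (l := l') (by
      rintro _ ⟨z, hz, rfl⟩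
      refine mem_center_iff.2 fun g => ?_
      obtain ⟨g, rfl⟩ := hf g
      rw [← map_mul, ← map_mul, mem_center_iff.1 (hZ hz) g]) (by
      refine Nat.not_even_iff_odd.1 fun e => ?_
      obtain ⟨⟨_, z, hz, rfl⟩, e⟩ := exists_prime_orderOf_dvd_card' 2 e.two_dvd
      refine hb.not_two_dvd_nat (e ▸ orderOf_dvd_of_pow_eq_one (Subtype.ext ((map_pow f z b).symm.trans (h2 _ (pow_mem hz b) ?_))))
      rw [← hl z hz, hm ⟨z, hz⟩, ← Units.val_pow_eq_pow_val, ← map_pow]
      exact hm (⟨z, hz⟩ ^ b))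
    (isCyclic_of_injective_ringHom m' ((injective_iff_map_eq_one m').2 fun z e => Subtype.ext (hfa z z.2 e)))
    (by rwa [← index_comap_of_surjective _ hf, hZf]) hfa (P.mapSurjective hf)
  rw [← h1, ← h1, map_top_of_surjective f hf, h3, ← map_comap_eq_self_of_surjective hf (normalizer _),
    comap_normalizer_eq_of_surjective _ hf, Sylow.coe_mapSurjective, comap_map_eq, sup_comm, hk,
    ← normalizer_eq_of_central (hK.trans hZ)
      ⟨le_top, P.isPGroup', (relIndex_top_right (P : Subgroup G)).symm ▸ P.not_dvd_index⟩]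

theorem mck (hC : Crit) {Z : Subgroup G} (hZ : Z ≤ center G) (ih : IH Z.index) : McK G Z := by
  intro l P
  by_cases h : ∃ (μ : G →* ℂˣ) (b : ℕ), Odd b ∧ ∀ z ∈ Z, (μ z * l z) ^ b = 1
  · obtain ⟨μ, b, hb, h⟩ := h
    rw [kk_twist _ Z l μ, kk_twist _ Z l μ]
    exact mck_ord hC hZ ih hb h P
  · have h0 : ∀ H : Subgroup G, Z ≤ H → (P : Subgroup G) ≤ H → kk H Z l = 0 := fun H h1 h2 =>
      Nat.card_eq_zero.2 (.inl ⟨fun ψ => h (exists_twist hZ h1 (Nat.not_even_iff_odd.1 fun e =>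
        P.not_dvd_index (e.two_dvd.trans (index_dvd_of_le h2))) ψ.2.1 ψ.2.2)⟩)
    rw [h0 _ le_top le_top, h0 _ (hZ.trans (center_le_normalizer _)) le_normalizer]

/-- **the reduction** -/
theorem red : Red := fun hC n => by
  induction n with
  | zero => exact fun _ _ _ _ _ h => absurd h (Nat.not_lt_zero _)
  | succ n ih => exact fun G _ _ Z hZ h => mck hC hZ (ih.mono (Nat.lt_succ_iff.1 h))

theorem kk_bot {H : Subgroup G} {A : Type*} [Group A] [Finite A] (e : H ≃* A) :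
    kk H ⊥ 1 = Nat.card {χ : IrrCharacter A // Odd (charDegree (χ : A → ℂ))} := by
  refine Eq.trans (b := Nat.card {χ : IrrCharacter H // Odd (charDegree (χ : H → ℂ))}) ?_
    (Nat.card_congr ((irrEquiv e).subtypeEquiv fun χ => by
      rw [show charDegree ((irrEquiv e χ : IrrCharacter H) : H → ℂ) = charDegree (χ : A → ℂ) from
        charDegree_comp_one e.toMonoidHom _])).symm
  exact Nat.card_congr
    { toFun := fun ψ => ⟨⟨ψ.1, ψ.2.1.1⟩, ψ.2.1.2⟩
      invFun := fun χ => ⟨χ.1.1, ⟨χ.1.2, χ.2⟩, fun h hh => by rw [show h = 1 from Subtype.ext hh, Pi.one_apply, one_mul]⟩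
      left_inv := fun _ => rfl
      right_inv := fun _ => rfl }

/-- **the statement of S4596** -/
theorem s4596_of (h : ∀ n, IH n) {A : Type*} [Group A] [Finite A] (P : Sylow 2 A) :
    Nat.card {χ : IrrCharacter A // Odd (charDegree (χ : A → ℂ))} =
      Nat.card {ψ : IrrCharacter (normalizer ((P : Subgroup A) : Set A)) //
        Odd (charDegree (ψ : normalizer ((P : Subgroup A) : Set A) → ℂ))} := by
  obtain ⟨G, _, ⟨e⟩⟩ := Lib.MinNormal.exists_type_zero_model A
  have := Finite.of_equiv _ e.toEquiv.symm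
  have h1 := h _ G ⊥ bot_le (Nat.lt_succ_self _) 1 (P.mapSurjective (f := e.symm.toMonoidHom) e.symm.surjective)
  rw [kk_bot (topEquiv.trans e)] at h1
  exact h1.trans (kk_bot ((e.symm.subgroupMap _).trans
    (MulEquiv.subgroupCongr (map_equiv_normalizer_eq (P : Subgroup A) e.symm))).symm)

end Cfsg.Agent.MK.R
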