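import Cfsg.Agent.MK.Defs
import Cfsg.Agent.ODD.Red.Cmp

/-!
# MK, the reduction: the components of a critical group (helper19)

`exists_conf` : a critical group which is not `2`-solvable is a configuration.
-/

set_option autoImplicit false
set_option maxHeartbeats 400000

namespace Cfsg.Agent.MK.R

open Cfsg Subgroup Cfsg.Agent.ODD.Red Cfsg.Agent.Lib.MinNormal Cfsg.Agent.Lib.MinNormalNonabelian

variable {G : Type} [Group G]

theorem ih_mono {m n : ℕ} (h : IH n) (hm : m ≤ n) : IH m := fun G _ _ Z h1 h2 => h G Z h1 (h2.trans_le hm)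

theorem normal_of_le_center {Z : Subgroup G} (hZ : Z ≤ center G) : Z.Normal :=
  ⟨fun n hn g => by rw [mem_center_iff.1 (hZ hn) g, mul_inv_cancel_right]; exact hn⟩

theorem pow_mem_of_sup {K P : Subgroup G} [K.Normal] (hP : IsPGroup 2 P) {x : G} (hx : x ∈ K ⊔ P) : ∃ k : ℕ, x ^ 2 ^ k ∈ K := by
  have h1 : QuotientGroup.mk' K x ∈ P.map (QuotientGroup.mk' K) := by
    rwa [← mem_comap, comap_map_eq, QuotientGroup.ker_mk', sup_comm]
  obtain ⟨k, hk⟩ := hP.map _ ⟨_, h1⟩
  exact ⟨k, (QuotientGroup.eq_one_iff _).1 ((map_pow (QuotientGroup.mk' K) x _).trans (congrArg Subtype.val hk))⟩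

section conf

variable (X : Subgroup G)

theorem out_mem (g : G) (i : G ⧸ normalizer (X : Set G)) : (g • i).out⁻¹ * (g * i.out) ∈ normalizer (X : Set G) :=
  QuotientGroup.eq.1 ((QuotientGroup.out_eq' _).trans (MulAction.Quotient.mk_smul_out _ g i).symm)

theorem smul_eq_iff {g : G} {i j : G ⧸ normalizer (X : Set G)} : g • i = j ↔ j.out⁻¹ * (g * i.out) ∈ normalizer (X : Set G) :=
  ⟨fun h => h ▸ out_mem X g i, fun h => (MulAction.Quotient.mk_smul_out _ g i).symm.trans
    ((QuotientGroup.eq.2 h).symm.trans (QuotientGroup.out_eq' _))⟩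

theorem exists_out (h : G) : ∃ i : G ⧸ normalizer (X : Set G), ∀ x ∈ X, ∃ y ∈ X, h * x * h⁻¹ = i.out * y * i.out⁻¹ := by
  have h1 : (h : G ⧸ normalizer (X : Set G)).out⁻¹ * h ∈ normalizer (X : Set G) := QuotientGroup.eq.1 (QuotientGroup.out_eq' _)
  exact ⟨h, fun x hx => ⟨_, (mem_normalizer_iff.1 h1 x).1 hx, by group⟩⟩

variable {X} {Z R : Subgroup G}

theorem comm_out (h1 : ∀ g, g ∈ normalizer (X : Set G) ∨ ∀ x ∈ X, ∀ y ∈ X, Commute (g * x * g⁻¹) y)
    {i j : G ⧸ normalizer (X : Set G)} (h : i ≠ j) {x y : G} (hx : x ∈ X) (hy : y ∈ X) :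
    i.out * x * i.out⁻¹ * (j.out * y * j.out⁻¹) = j.out * y * j.out⁻¹ * (i.out * x * i.out⁻¹) := by
  have h2 := ((h1 (j.out⁻¹ * i.out)).resolve_left fun e => h ((QuotientGroup.out_eq' i).symm.trans
    ((QuotientGroup.eq.2 e).symm.trans (QuotientGroup.out_eq' j)))) x hx y hy
  calc _ = j.out * (j.out⁻¹ * i.out * x * (j.out⁻¹ * i.out)⁻¹ * y) * j.out⁻¹ := by group
    _ = _ := by rw [h2.eq]; group

/-- the configuration of the conjugates of `X` -/
noncomputable def conf (hZ : Z ≤ center G) (ho : Odd (Nat.card Z)) (ih : IH Z.index)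
    (h1 : ∀ g, g ∈ normalizer (X : Set G) ∨ ∀ x ∈ X, ∀ y ∈ X, Commute (g * x * g⁻¹) y)
    (h2 : ∀ g, (∀ h, ∀ x ∈ X, Commute g (h * x * h⁻¹)) → g ∈ Z) (hR : R.Normal) (hZR : Z ≤ R) (hXR : X ≤ R)
    (h3 : ∀ g ∈ R, ∃ k : ℕ, g ^ 2 ^ k ∈ Z ⊔ normalClosure X) (h4 : Odd R.index) :
    Conf X.normalizerMonoidHom.range G Z (G ⧸ normalizer (X : Set G)) where
  e i := (MulAut.conj i.out).toMonoidHom.comp X.subtype
  π := MulAction.toPermHom G _
  a g i := X.normalizerMonoidHom ⟨_, out_mem X g i⟩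
  inj i := (MulAut.conj i.out).injective.comp X.subtype_injective
  ha g i x := by
    show g * (i.out * x * i.out⁻¹) * g⁻¹ = (g • i).out * ((g • i).out⁻¹ * (g * i.out) * x * ((g • i).out⁻¹ * (g * i.out))⁻¹) *
      (g • i).out⁻¹
    group
  mem g i := ⟨_, rfl⟩
  onto i j := by
    rintro _ ⟨n, rfl⟩
    have h : (j.out * n * i.out⁻¹) • i = j := (smul_eq_iff X).2 (by simp)
    exact ⟨_, h, congrArg _ (Subtype.ext (by simp [h]))⟩
  ne := ⟨(1 : G)⟩
  comm i j h x y := comm_out h1 h x.2 y.2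
  pie i x := Equiv.ext fun j => (smul_eq_iff X).2 (by
    show j.out⁻¹ * (i.out * x * i.out⁻¹ * j.out) ∈ _
    by_cases h : i = j
    · simpa [h] using le_normalizer x.2
    · refine centralizer_le_normalizer _ (mem_centralizer_iff.2 fun y hy => ?_)
      calc _ = j.out⁻¹ * (j.out * y * j.out⁻¹ * (i.out * x * i.out⁻¹)) * j.out := by group
        _ = _ := by rw [← comm_out h1 h x.2 hy]; group)
  cen := hZ
  ker g hg ha := h2 g fun h x hx => by
    obtain ⟨i, hi⟩ := exists_out X h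
    obtain ⟨y, hy, e⟩ := hi x hx
    have h5 : g • i = i := congrFun (congrArg DFunLike.coe hg) i
    have h6 := congrArg Subtype.val (DFunLike.congr_fun (ha i) ⟨y, hy⟩)
    change (g • i).out⁻¹ * (g * i.out) * y * ((g • i).out⁻¹ * (g * i.out))⁻¹ = y at h6
    rw [h5] at h6
    rw [e]
    show _ = _
    conv_rhs => rw [← h6]
    group
  odd := ho
  cl := ⟨R, hR, sup_le hZR (iSup_le fun i => by
      rintro _ ⟨x, rfl⟩
      exact hR.conj_mem _ (hXR x.2) _), fun g hg => (h3 g hg).imp fun k hk => sup_le_sup_left (by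
        rw [normalClosure, closure_le]
        intro y hy
        obtain ⟨x, hx, hc⟩ := Group.mem_conjugatesOfSet_iff.1 hy
        obtain ⟨h, rfl⟩ := isConj_iff.1 hc
        obtain ⟨i, hi⟩ := exists_out X h
        obtain ⟨y, hy, e⟩ := hi x hx
        exact mem_iSup_of_mem i ⟨⟨y, hy⟩, e.symm⟩) Z hk, h4⟩
  ih := ih

theorem sit [Finite G] (hZ : Z ≤ center G) (hc : IsCyclic Z) (ih : IH Z.index) {L : Subgroup G} (c : Cmp L X)
    (h2 : ∀ g, (∀ h, ∀ x ∈ X, Commute g (h * x * h⁻¹)) → g ∈ Z) (hR : R.Normal) (hXR : X ≤ R)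
    (h3 : ∀ g ∈ R, ∃ k : ℕ, g ^ 2 ^ k ∈ L) (h4 : Odd R.index) : Sit X X.normalizerMonoidHom.range := by
  have h5 : ∀ z ∈ center X, (z : G) ∈ Z := fun z hz => h2 z fun h x hx => by
    rcases c.conj h with e | e
    · exact (congrArg Subtype.val (mem_center_iff.1 hz ⟨_, (mem_normalizer_iff.1 e x).1 hx⟩)).symm
    · exact (e x hx z z.2).symm
  have h6 : ∀ x : X, X.normalizerMonoidHom ⟨x, le_normalizer x.2⟩ = MulAut.conj x := fun _ => MulEquiv.ext fun _ => rfl
  have := normal_of_le_center hZ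
  refine ⟨c.qs, c.odd, isCyclic_of_injective ((X.subtype.comp (center X).subtype).codRestrict Z fun z => h5 _ z.2)
    fun a b e => Subtype.ext (Subtype.ext (congrArg (fun z : Z => (z : G)) e)), fun x => ⟨_, h6 x⟩, ?_,
    ⟨(R.subgroupOf _).map X.normalizerMonoidHom, map_le_range _ _, fun x => ⟨_, hXR x.2, h6 x⟩, ?_, ?_, ?_⟩, ih_mono ih ?_⟩
  · rintro _ ⟨n, rfl⟩ z hz
    refine Subtype.ext ?_
    show (n : G) * z * (n : G)⁻¹ = z
    rw [mem_center_iff.1 (hZ (h5 z hz)), mul_inv_cancel_right]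
  · rintro _ ⟨n, rfl⟩ _ ⟨r, hr, rfl⟩
    exact ⟨n * r * n⁻¹, hR.conj_mem _ hr n, by rw [map_mul, map_mul, map_inv]⟩
  · rintro _ ⟨r, hr, rfl⟩
    obtain ⟨k, hk⟩ := h3 r hr
    obtain ⟨a, ha, b, hb, e⟩ := c.gen _ hk
    refine ⟨k, ⟨a, ha⟩, MulEquiv.ext fun x => Subtype.ext ?_⟩
    rw [← map_pow]
    show (r : G) ^ 2 ^ k * x * ((r : G) ^ 2 ^ k)⁻¹ = a * x * a⁻¹
    rw [e, mul_assoc a, ← mem_centralizer_iff.1 hb x x.2]
    group
  · rw [MonoidHom.range_eq_map, relIndex_map_map, top_sup_eq, relIndex_top_right]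
    exact h4.of_dvd_nat ((index_dvd_of_le le_sup_left).trans (relIndex_dvd_index_of_normal R _))
  · rw [← index_ker]
    refine Nat.le_of_dvd (Nat.pos_of_ne_zero index_ne_zero_of_finite)
      ((index_dvd_of_le ?_).trans (relIndex_dvd_index_of_normal Z (normalizer (X : Set G))))
    rw [normalizerMonoidHom_ker]
    exact comap_mono (hZ.trans (center_le_centralizer _))

end conf

theorem psolv_of [Finite G] {Z L : Subgroup G} [hZ : Z.Normal] [hL : L.Normal] (P : Sylow 2 G) (hZL : Z ≤ L) (ho : Odd (Nat.card Z))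
    (hn : (L ⊔ (P : Subgroup G)).Normal) (h : (∃ m, Z.relIndex L = 2 ^ m) ∨ Odd (Z.relIndex L)) : IsPSolvable 2 G := by
  refine ⟨4, ![⊥, Z, L, L ⊔ P, ⊤], rfl, rfl, Fin.monotone_iff_le_succ.2 fun i => ?_, fun i => ?_, fun i => ?_⟩
  · fin_cases i
    exacts [bot_le, hZL, le_sup_left, le_top]
  · fin_cases i
    exacts [normal_bot, hZ, hL, hn, normal_top]
  · fin_cases i
    · exact .inr (Nat.coprime_two_right.2 (relIndex_bot_left Z ▸ ho))
    · exact h.imp_right Nat.coprime_two_right.2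
    · obtain ⟨k, hk⟩ := IsPGroup.iff_card.1 P.isPGroup'
      obtain ⟨j, -, hj⟩ := (Nat.dvd_prime_pow Nat.prime_two).1 (hk ▸ relIndex_dvd_card L (P : Subgroup G))
      exact .inl ⟨j, (relIndex_sup_left (P : Subgroup G) L).trans hj⟩
    · refine .inr (Nat.coprime_two_right.2 (Nat.not_even_iff_odd.1 fun h => P.not_dvd_index ?_))
      exact h.two_dvd.trans ((relIndex_top_right _).dvd.trans (index_dvd_of_le le_sup_right))

/-- **the critical groups** -/
theorem exists_conf [Finite G] {S : Type} [Group S] {π : G →* S} (hπ : Function.Surjective π) (hZ : π.ker ≤ center G)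
    (ho : Odd (Nat.card π.ker)) (hc : IsCyclic π.ker) (ih : IH π.ker.index) (P : Sylow 2 G)
    (hP : ∀ K : Subgroup G, K.Normal → π.ker < K → (K ⊔ (P : Subgroup G)).Normal) (hs : ¬ IsPSolvable 2 G) :
    ∃ (X : Subgroup G) (Γ : Subgroup (MulAut X)) (ι : Type) (_ : Finite ι) (_ : Conf Γ G π.ker ι), Sit X Γ := by
  have := Finite.of_surjective π hπ
  have hlt : ∀ M : Subgroup S, M ≠ ⊥ → π.ker < M.comap π := fun M hM =>
    lt_of_le_of_ne (ker_le_comap _ _) fun e => hM (by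
      rw [← map_comap_eq_self_of_surjective hπ M, ← e, Subgroup.map_eq_bot_iff])
  have hodd : ∀ K : Subgroup G, Odd (K ⊔ (P : Subgroup G)).index := fun K =>
    Nat.not_even_iff_odd.1 fun h => P.not_dvd_index (h.two_dvd.trans (index_dvd_of_le le_sup_right))
  obtain ⟨M, -, hM0, hM, hmin'⟩ := exists_minimal_normal_le (⊤ : Subgroup S) fun h => hs (psolv_of (L := π.ker) P le_rfl ho
    (by rw [← MonoidHom.comap_bot, ← h, comap_top, top_sup_eq]; infer_instance) (.inl ⟨0, relIndex_self _⟩))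
  have hM : M.Normal := normalizer_eq_top_iff.1 (eq_top_iff.2 hM)
  have hmin : ∀ K : Subgroup S, K.Normal → K ≤ M → K = ⊥ ∨ K = M := fun K h1 h2 => hmin' K h2 (normalizer_eq_top K).ge
  have hi : π.ker.relIndex (M.comap π) = Nat.card M := by
    rw [← relIndex_bot_left, ← MonoidHom.comap_bot, relIndex_comap, map_comap_eq_self_of_surjective hπ]
  have h0 := fun h => hs (psolv_of P (hlt M hM0).le ho (hP _ inferInstance (hlt M hM0)) h)
  rw [hi] at h0
  have hna : ¬ ∀ x ∈ M, ∀ y ∈ M, Commute x y := fun h => by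
    obtain ⟨p, hp, h1, -⟩ := abelian_structure M hM0 hmin h
    have := Fact.mk hp
    obtain ⟨k, h2⟩ := IsPGroup.iff_card.1 h1
    exact h0 (hp.eq_two_or_odd'.imp (fun e => ⟨k, by rw [h2, e]⟩) fun e => h2 ▸ e.pow)
  have hC : centralizer (M : Set S) = ⊥ := by
    by_contra h
    have := hP _ inferInstance (hlt _ h)
    have h1 := Normal.map this π hπ
    rcases hmin (M ⊓ ((centralizer (M : Set S)).comap π ⊔ (P : Subgroup G)).map π) inferInstance inf_le_left with e | e
    · refine h0 (.inr ((hodd ((centralizer (M : Set S)).comap π)).of_dvd_nat ?_))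
      rw [← relIndex_bot_left, ← e, inf_relIndex_left]
      exact (relIndex_dvd_index_of_normal _ _).trans (index_map_dvd _ hπ)
    · refine h0 (.inl (IsPGroup.iff_card.1 fun x => ?_))
      obtain ⟨y, hy, h2⟩ := (e.ge x.2).2
      obtain ⟨k, h3⟩ := pow_mem_of_sup P.isPGroup' hy
      rcases hmin (M ⊓ centralizer (M : Set S)) inferInstance inf_le_left with e' | e'
      · exact ⟨k, Subtype.ext (e'.le ⟨(x ^ 2 ^ k).2, by rwa [mem_comap, map_pow, h2] at h3⟩)⟩
      · exact absurd (fun a ha b hb => mem_centralizer_iff.1 (e'.ge hb).2 a ha) hna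
  obtain ⟨s, h1, -, h2⟩ := exists_cmp hπ hZ ho M hmin hna
  obtain ⟨X, hX⟩ : s.Nonempty := Set.nonempty_iff_ne_empty.2 fun e => (hlt M hM0).not_ge (by simpa [e] using h2)
  have c := h1 X hX
  have h3 : (normalClosure (X : Set G)).map π = M := by
    refine (hmin _ (Normal.map inferInstance π hπ) (map_le_iff_le_comap.2 (normalClosure_le_normal c.le))).resolve_left
      fun e => ?_
    have h4 : center X = ⊤ := eq_top_iff.2 fun x _ => mem_center_iff.2 fun y => Subtype.ext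
      (mem_center_iff.1 (hZ ((Subgroup.map_eq_bot_iff _).1 e (le_normalClosure x.2))) y)
    have := c.qs.2
    exact not_subsingleton (X ⧸ center X) (by rw [h4]; exact QuotientGroup.subsingleton_quotient_top)
  have h4 : ∀ g, (∀ h, ∀ x ∈ X, Commute g (h * x * h⁻¹)) → g ∈ π.ker := fun g hg => by
    have h5 : normalClosure (X : Set G) ≤ centralizer {g} := by
      rw [normalClosure, closure_le]
      intro y hy
      obtain ⟨x, hx, hc⟩ := Group.mem_conjugatesOfSet_iff.1 hy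
      obtain ⟨h, rfl⟩ := isConj_iff.1 hc
      exact mem_centralizer_singleton_iff.2 (hg h x hx).symm
    refine hC.le (mem_centralizer_iff.2 ?_)
    rw [← h3]
    rintro _ ⟨y, hy, rfl⟩
    rw [← map_mul, ← map_mul, mem_centralizer_singleton_iff.1 (h5 hy)]
  have h5 : ∀ g ∈ M.comap π ⊔ (P : Subgroup G), ∃ k : ℕ, g ^ 2 ^ k ∈ M.comap π := fun g => pow_mem_of_sup P.isPGroup'
  have hn := hP _ inferInstance (hlt M hM0)
  exact ⟨X, _, _, inferInstance, conf hZ ho ih c.conj h4 hn ((hlt M hM0).le.trans le_sup_left) (c.le.trans le_sup_left)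
    (fun g hg => by rw [sup_comm, ← comap_map_eq, h3]; exact h5 g hg) (hodd _),
    sit hZ hc ih c h4 hn (c.le.trans le_sup_left) h5 (hodd _)⟩

end Cfsg.Agent.MK.R
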